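import Mathlib
import Cfsg.Agent.Lib.CoprimeOmega.Basic
import Cfsg.Agent.Lib.Coprime.Basic
import Cfsg.Agent.Lib.PGroup.Critical
import Cfsg.Agent.Lib.Hall.Factor

/-!
Elements of order `p` (and `4` when `p = 2`) with conjugacy classes of `p`-power size.
-/

set_option autoImplicit false

namespace Cfsg.Agent.Lib.PPowerIndex

open Subgroup Cfsg.Agent.Lib
open Cfsg.Agent.Lib.CoprimeOmega (exists_proper_subgroup_pow_commutator mul_pow_of_commute)
open scoped commutatorElement

variable {G : Type*} [Group G]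

/-- A `p'`-element which centralises all elements of order dividing `p`, or `4` when `p = 2`,
of a `p`-group centralises the `p`-group. -/
theorem commute_of_commute_omega [Finite G] {p : ℕ} [Fact p.Prime] {a : G}
    (ha : (orderOf a).Coprime p) :
    ∀ {D : Subgroup G}, IsPGroup p D → (∀ x ∈ D, a * x * a⁻¹ ∈ D) →
      (∀ x ∈ D, x ^ (if p = 2 then 4 else p) = 1 → a * x = x * a) → ∀ x ∈ D, a * x = x * a := by
  intro D
  induction hD : Nat.card D using Nat.strong_induction_on generalizing D with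
  | _ n ih =>
  intro hDp hinv hfix
  rcases eq_or_ne D ⊥ with rfl | hne
  · intro x hx
    rw [mem_bot] at hx
    simp [hx]
  set S : Set G := {z : G | (∃ x ∈ D, z = x ^ p) ∨ (∃ x ∈ D, ∃ y ∈ D, z = ⁅x, y⁆)} with hS
  have hTD : closure S ≤ D := by
    rw [closure_le]
    rintro z (⟨x, hx, rfl⟩ | ⟨x, hx, y, hy, rfl⟩)
    · exact D.pow_mem hx p
    · rw [commutatorElement_def]
      exact D.mul_mem (D.mul_mem (D.mul_mem hx hy) (D.inv_mem hx)) (D.inv_mem hy)
  have hTlt : closure S < D := by
    obtain ⟨g, hg, hg'⟩ := exists_proper_subgroup_pow_commutator hDp hne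
    exact lt_of_le_not_ge hTD fun h => hg' (h hg)
  have hTinv : ∀ z ∈ closure S, a * z * a⁻¹ ∈ closure S := by
    intro z hz
    induction hz using closure_induction with
    | mem z hz =>
      apply Subgroup.subset_closure
      rcases hz with ⟨x, hx, rfl⟩ | ⟨x, hx, y, hy, rfl⟩
      · exact Or.inl ⟨_, hinv x hx, conj_pow.symm⟩
      · exact Or.inr ⟨_, hinv x hx, _, hinv y hy, conjugate_commutatorElement x y a⟩
    | one => simp
    | mul u v _ _ hu hv =>
      have := mul_mem hu hv
      simpa [mul_assoc] using this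
    | inv u _ hu =>
      have := inv_mem hu
      simpa [mul_assoc] using this
  have hcard : Nat.card (closure S) < n :=
    hD ▸ Set.ncard_lt_ncard hTlt (Set.toFinite _)
  have hT : ∀ z ∈ closure S, a * z = z * a :=
    ih _ hcard rfl (hDp.to_le hTD) hTinv fun x hx => hfix x (hTD hx)
  intro x hx
  -- `z = [x⁻¹, a]`, conjugation by `a` sends `x` to `x z`
  set z := x⁻¹ * (a * x * a⁻¹) with hz
  have hzD : z ∈ D := D.mul_mem (D.inv_mem hx) (hinv x hx)
  have hax : a * x * a⁻¹ = x * z := by rw [hz]; group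
  have hfixc : ∀ w ∈ closure S, a * w * a⁻¹ = w := fun w hw => by rw [hT w hw]; group
  have hnormal : ∀ u ∈ D, ∀ w ∈ closure S, u * w * u⁻¹ ∈ closure S := by
    intro u hu w hw
    have hm : ⁅u, w⁆ ∈ closure S := Subgroup.subset_closure (Or.inr ⟨u, hu, w, hTD hw, rfl⟩)
    have := mul_mem hm hw
    simpa [commutatorElement_def] using this
  suffices haz : a * z = z * a by
    have hz' : x⁻¹ * a * x⁻¹⁻¹ * a⁻¹ = z := by rw [hz]; group
    have hcop : Nat.Coprime (orderOf a) (orderOf z) := by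
      obtain ⟨k, hk⟩ := hDp ⟨z, hzD⟩
      have h1 : z ^ p ^ k = 1 := congrArg Subtype.val hk
      exact Nat.Coprime.coprime_dvd_right (orderOf_dvd_of_pow_eq_one h1) (ha.pow_right k)
    have := Lib.Coprime.commute_of_commute_commutator (a := a) (k := x⁻¹)
      (by rw [hz']; exact haz.symm) (by rw [hz']; exact hcop)
    have h' := this.inv_left
    rw [inv_inv] at h'
    exact h'.eq.symm
  by_cases hW : closure {w : G | ∃ y ∈ D, w = y⁻¹ * (a * y * a⁻¹)} = D
  · -- now `closure S` is central in `D`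
    have hcen : ∀ u ∈ D, ∀ w ∈ closure S, u * w = w * u := by
      intro u hu w hw
      have : D ≤ centralizer ({w} : Set G) := by
        rw [← hW, closure_le]
        rintro _ ⟨y, hy, rfl⟩
        refine mem_centralizer_singleton_iff.mpr ?_
        set z' := y⁻¹ * (a * y * a⁻¹) with hz'
        have h1 := hfixc _ (hnormal y hy w hw)
        have h2 : (a * y * a⁻¹) * (a * w * a⁻¹) * (a * y * a⁻¹)⁻¹ = y * w * y⁻¹ := by
          rw [← h1]; group
        rw [hfixc w hw] at h2
        calc z' * w = y⁻¹ * ((a * y * a⁻¹) * w * (a * y * a⁻¹)⁻¹) * y * z' := by rw [hz']; group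
          _ = y⁻¹ * (y * w * y⁻¹) * y * z' := by rw [h2]
          _ = w * z' := by group
      exact mem_centralizer_singleton_iff.mp (this hu)
    obtain ⟨c, hc, hcS⟩ : ∃ c, z * x = x * z * c ∧ c ∈ closure S :=
      ⟨z⁻¹ * x⁻¹ * z * x, by group, by
        have hm : ⁅z⁻¹, x⁻¹⁆ ∈ closure S :=
          Subgroup.subset_closure (Or.inr ⟨_, D.inv_mem hzD, _, D.inv_mem hx, rfl⟩)
        simpa [commutatorElement_def] using hm⟩
    have hcx : c * x = x * c := (hcen x hx c hcS).symm
    have hcz : c * z = z * c := (hcen z hzD c hcS).symm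
    clear_value z
    have hxm : ∀ m : ℕ, z * x ^ m = x ^ m * z * c ^ m := by
      intro m
      induction m with
      | zero => simp
      | succ m ihm =>
        calc z * x ^ (m + 1) = (z * x ^ m) * x := by rw [pow_succ, mul_assoc]
          _ = x ^ m * z * (c ^ m * x) := by rw [ihm]; simp only [mul_assoc]
          _ = x ^ m * (z * x) * c ^ m := by
            rw [((show Commute c x from hcx).pow_left m).eq]; simp only [mul_assoc]
          _ = x ^ m * (x * z * c) * c ^ m := by rw [hc]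
          _ = x ^ (m + 1) * z * c ^ (m + 1) := by
            rw [pow_succ x m, pow_succ' c m]; simp only [mul_assoc]
    have hxpS : x ^ p ∈ closure S := Subgroup.subset_closure (Or.inl ⟨x, hx, rfl⟩)
    have hcp : c ^ p = 1 := by
      have h1 := hxm p
      rw [hcen z hzD _ hxpS] at h1
      simpa using h1
    have h3 := mul_pow_of_commute hc hcx hcz p
    rw [← hax, conj_pow, hfixc _ hxpS] at h3
    refine hfix z hzD ?_
    by_cases hp : p = 2
    · subst hp
      rw [if_pos rfl]
      have h4 : z ^ 2 * c = 1 := by simpa [mul_assoc] using h3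
      rw [show 4 = 2 * 2 from rfl, pow_mul, eq_inv_of_mul_eq_one_left h4, inv_pow, hcp, inv_one]
    · rw [if_neg hp]
      have hchoose : p ∣ p.choose 2 :=
        (Fact.out : p.Prime).dvd_choose_self (by norm_num)
          (lt_of_le_of_ne (Fact.out : p.Prime).two_le (Ne.symm hp))
      obtain ⟨k, hk⟩ := hchoose
      simpa [hk, pow_mul, hcp] using h3
  · have hWD : closure {w : G | ∃ y ∈ D, w = y⁻¹ * (a * y * a⁻¹)} ≤ D := by
      rw [closure_le]
      rintro _ ⟨y, hy, rfl⟩
      exact D.mul_mem (D.inv_mem hy) (hinv y hy)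
    have hWinv : ∀ w ∈ closure {w : G | ∃ y ∈ D, w = y⁻¹ * (a * y * a⁻¹)},
        a * w * a⁻¹ ∈ closure {w : G | ∃ y ∈ D, w = y⁻¹ * (a * y * a⁻¹)} := by
      intro w hw
      induction hw using closure_induction with
      | mem w hw =>
        obtain ⟨y, hy, rfl⟩ := hw
        exact Subgroup.subset_closure ⟨_, hinv y hy, by group⟩
      | one => simp
      | mul u v _ _ hu hv => simpa [mul_assoc] using mul_mem hu hv
      | inv u _ hu => simpa [mul_assoc] using inv_mem hu
    have hlt := lt_of_le_of_ne hWD hW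
    exact ih _ (hD ▸ Set.ncard_lt_ncard hlt (Set.toFinite _)) rfl (hDp.to_le hWD) hWinv
      (fun w hw => hfix w (hWD hw)) z (Subgroup.subset_closure ⟨x, hx, rfl⟩)


/-- An element with a class of `p`-power size is conjugated as by any Sylow `p`-subgroup. -/
theorem exists_conj_eq_sylow [Finite G] {p : ℕ} [Fact p.Prime] {x : G} {a : ℕ}
    (hx : (centralizer ({x} : Set G)).index = p ^ a) (P : Sylow p G) (g : G) :
    ∃ q ∈ (P : Subgroup G), g * x * g⁻¹ = q * x * q⁻¹ := by
  have hcop : (P : Subgroup G).index.Coprime (centralizer ({x} : Set G)).index := by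
    rw [hx]
    exact (((Fact.out : p.Prime).coprime_iff_not_dvd.mpr P.not_dvd_index).symm).pow_right a
  obtain ⟨q, hq, c, hc, rfl⟩ := Hall.exists_mul_of_coprime_index _ _ hcop g
  refine ⟨q, hq, ?_⟩
  have h1 : c * x * c⁻¹ = x := by
    rw [mem_centralizer_singleton_iff.mp hc]; group
  calc q * c * x * (q * c)⁻¹ = q * (c * x * c⁻¹) * q⁻¹ := by group
    _ = q * x * q⁻¹ := by rw [h1]

/-- A coprime element centralises a normal `p`-subgroup all whose elements have classes of
`p`-power size. -/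
theorem commute_of_normal_pPowerIndex [Finite G] {p : ℕ} [Fact p.Prime] {y : G}
    (hy : (orderOf y).Coprime p) :
    ∀ {U : Subgroup G}, U.Normal → IsPGroup p U →
      (∀ u ∈ U, ∃ a : ℕ, (centralizer ({u} : Set G)).index = p ^ a) → ∀ u ∈ U, y * u = u * y := by
  intro U
  induction hn : Nat.card U using Nat.strong_induction_on generalizing U with
  | _ n ih =>
  intro hUn hUp hUi
  subst hn
  rcases eq_or_ne U ⊥ with rfl | hne
  · intro u hu
    rw [mem_bot] at hu
    simp [hu]
  obtain ⟨V, hV⟩ := (Set.toFinite {V : Subgroup G | V.Normal ∧ V < U}).exists_maximal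
    ⟨⊥, inferInstance, bot_lt_iff_ne_bot.mpr hne⟩
  have hVn : V.Normal := hV.1.1
  have hVU : V < U := hV.1.2
  obtain ⟨P⟩ : Nonempty (Sylow p G) := inferInstance
  -- a `P`-fixed point of `U / V`
  have key : ∀ m : ℕ, ∀ W : Subgroup G, Nat.card W = m → W ≤ U →
      (P : Subgroup G) ≤ normalizer (W : Set G) → ¬ W ≤ V →
      ∃ w ∈ W, w ∉ V ∧ ∀ q ∈ (P : Subgroup G), ⁅w, q⁆ ∈ V := by
    intro m
    induction m using Nat.strong_induction_on with
    | _ m ihm =>
    intro W hm hWU hPW hWV
    by_cases hc : ⁅W, (P : Subgroup G)⁆ ≤ V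
    · obtain ⟨w, hw, hw'⟩ := SetLike.not_le_iff_exists.mp hWV
      exact ⟨w, hw, hw', fun q hq => hc (commutator_mem_commutator hw hq)⟩
    · have hlt := Coprime.commutator_lt_of_isPGroup (hUp.to_le hWU) P.2 hPW
        (fun h => hWV (h ▸ bot_le))
      obtain ⟨w, hw, hw'⟩ := ihm _ (hm ▸ Set.ncard_lt_ncard hlt (Set.toFinite _)) _ rfl
        (hlt.le.trans hWU) (Coprime.le_normalizer_commutator hPW le_normalizer) hc
      exact ⟨w, hlt.le hw, hw'⟩
  obtain ⟨u, huU, huV, huP⟩ := key _ U rfl le_rfl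
    (by haveI := hUn; rw [normalizer_eq_top]; exact le_top) (not_le_of_gt hVU)
  obtain ⟨a, ha⟩ := hUi u huU
  have huG : ((u : G) : G ⧸ V) ∈ center (G ⧸ V) := by
    rw [mem_center_iff]
    rintro ⟨g⟩
    obtain ⟨q, hq, hgq⟩ := exists_conj_eq_sylow ha P g
    change ((g : G) : G ⧸ V) * (u : G ⧸ V) = (u : G ⧸ V) * (g : G ⧸ V)
    have h1 : ((⁅u, q⁆ : G) : G ⧸ V) = 1 := (QuotientGroup.eq_one_iff _).mpr (huP q hq)
    have h2 : ((g * u * g⁻¹ : G) : G ⧸ V) = (u : G ⧸ V) := by
      have h3 : ((⁅u, q⁆⁻¹ * u : G) : G ⧸ V) = (u : G ⧸ V) := by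
        rw [QuotientGroup.mk_mul, QuotientGroup.mk_inv, h1, inv_one, one_mul]
      rwa [show ⁅u, q⁆⁻¹ * u = q * u * q⁻¹ by group, ← hgq] at h3
    calc ((g : G) : G ⧸ V) * (u : G ⧸ V) = ((g * u * g⁻¹ : G) : G ⧸ V) * (g : G ⧸ V) := by
          rw [← QuotientGroup.mk_mul, ← QuotientGroup.mk_mul, inv_mul_cancel_right]
      _ = _ := by rw [h2]
  have hW : U ≤ (center (G ⧸ V)).comap (QuotientGroup.mk' V) := by
    have hle : U ⊓ (center (G ⧸ V)).comap (QuotientGroup.mk' V) ≤ V ∨
        U ≤ (center (G ⧸ V)).comap (QuotientGroup.mk' V) := by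
      rcases eq_or_lt_of_le (inf_le_left :
        U ⊓ (center (G ⧸ V)).comap (QuotientGroup.mk' V) ≤ U) with h | h
      · exact Or.inr (inf_eq_left.mp h)
      · refine Or.inl (hV.2 ⟨inferInstance, h⟩ (le_inf hVU.le fun v hv => ?_))
        rw [mem_comap, QuotientGroup.mk'_apply, (QuotientGroup.eq_one_iff v).mpr hv]
        exact one_mem _
    exact hle.resolve_left fun h => huV (h (mem_inf.mpr ⟨huU, huG⟩))
  have hVy : ∀ v ∈ V, y * v = v * y :=
    ih _ (Set.ncard_lt_ncard hVU (Set.toFinite _)) rfl hVn (hUp.to_le hVU.le)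
      fun v hv => hUi v (hVU.le hv)
  have hKN : ⁅U, zpowers y⁆ ≤ V := by
    rw [commutator_le]
    intro w hw z _
    rw [← QuotientGroup.eq_one_iff, ← QuotientGroup.mk'_apply, map_commutatorElement,
      commutatorElement_eq_one_iff_mul_comm]
    exact (mem_center_iff.mp (hW hw) _).symm
  have hcen := Coprime.le_centralizer_of_stabilizes hKN
    (zpowers_le.mpr (mem_centralizer_iff.mpr fun v hv => (hVy v hv).symm)) (by
      obtain ⟨k, hk⟩ := (hUp.to_le hVU.le).exists_card_eq
      rw [hk, Nat.card_zpowers]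
      exact hy.pow_right k)
  intro w hw
  exact (mem_centralizer_iff.mp (hcen (mem_zpowers y)) w hw).symm

/-- If all elements of order dividing `p`, or `4` when `p = 2`, have classes of `p`-power size,
then every `p'`-element centralises all of them. -/
theorem commute_of_pPowerIndex [Finite G] {p : ℕ} [Fact p.Prime]
    (h : ∀ x : G, x ^ (if p = 2 then 4 else p) = 1 →
      ∃ a : ℕ, (centralizer ({x} : Set G)).index = p ^ a)
    {y : G} (hy : (orderOf y).Coprime p) {x : G} (hx : x ^ (if p = 2 then 4 else p) = 1) :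
    y * x = x * y := by
  set e := if p = 2 then 4 else p with he
  obtain ⟨m, hm⟩ : ∃ m, e = p ^ m := by
    by_cases hp : p = 2
    · subst hp; exact ⟨2, by simp [he]⟩
    · exact ⟨1, by simp [he, hp]⟩
  have hec : p ∣ e.choose 2 := by
    by_cases hp : p = 2
    · subst hp
      rw [he, if_pos rfl]
      decide
    · rw [he, if_neg hp]
      exact (Fact.out : p.Prime).dvd_choose_self (by norm_num)
        (lt_of_le_of_ne (Fact.out : p.Prime).two_le (Ne.symm hp))
  set T : Set G := {z : G | z ^ e = 1} with hT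
  set R : Subgroup G := closure T with hR
  have hTc : ∀ g : G, ∀ z ∈ T, g * z * g⁻¹ ∈ T := fun g z hz => by
    change (g * z * g⁻¹) ^ e = 1
    rw [conj_pow, show z ^ e = 1 from hz]; group
  have hRn : R.Normal := ⟨fun z hz g => by
    induction hz using closure_induction with
    | mem z hz => exact subset_closure (hTc g z hz)
    | one => simp
    | mul u v _ _ hu hv => simpa [mul_assoc] using mul_mem hu hv
    | inv u _ hu => simpa [mul_assoc] using inv_mem hu⟩
  obtain ⟨P⟩ : Nonempty (Sylow p G) := inferInstance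
  have hRP : R ≤ P := by
    rw [hR, closure_le]
    intro z hz
    have hzp : IsPGroup p (zpowers z) := by
      obtain ⟨k, -, hk⟩ := (Nat.dvd_prime_pow (Fact.out : p.Prime)).mp
        (hm ▸ orderOf_dvd_of_pow_eq_one (hz : z ^ e = 1))
      exact IsPGroup.of_card (n := k) (by rw [Nat.card_zpowers, hk])
    obtain ⟨P', hP'⟩ := hzp.exists_le_sylow
    obtain ⟨g, rfl⟩ := MulAction.exists_smul_eq G P' P
    obtain ⟨q, hq, hgq⟩ := exists_conj_eq_sylow (h z hz).choose_spec P' g⁻¹
    have h1 : g⁻¹ * z * g⁻¹⁻¹ ∈ (P' : Subgroup G) :=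
      hgq ▸ mul_mem (mul_mem hq (hP' (mem_zpowers z))) (inv_mem hq)
    rw [SetLike.mem_coe, Sylow.coe_subgroup_smul, mem_pointwise_smul_iff_inv_smul_mem,
      ← map_inv, MulAut.smul_def, MulAut.conj_apply]
    exact h1
  have hRp : IsPGroup p R := P.2.to_le hRP
  obtain ⟨C₀, hC₀⟩ := Critical.exists_critical hRp
  haveI := hC₀.char
  set C : Subgroup G := C₀.map R.subtype with hC
  have hCn : C.Normal := inferInstance
  have hCR : C ≤ R := map_subtype_le _
  have hcen : R ⊓ centralizer (C : Set G) ≤ C := by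
    intro z hz
    obtain ⟨hzR, hzC⟩ := mem_inf.mp hz
    refine ⟨⟨z, hzR⟩, hC₀.centralizer_le ?_, rfl⟩
    exact mem_centralizer_iff.mpr fun c hc => Subtype.ext
      (mem_centralizer_iff.mp hzC c ⟨c, hc, rfl⟩)
  -- the elements `z` of `C` with `z ^ e = 1` form a subgroup
  have hcl : ∀ u ∈ C, ∀ v ∈ C, u ^ e = 1 → v ^ e = 1 → (u * v) ^ e = 1 := by
    rintro _ ⟨u, hu, rfl⟩ _ ⟨v, hv, rfl⟩ hue hve
    set c := v⁻¹ * u⁻¹ * v * u with hc
    have hcC : c ∈ centralizer (C₀ : Set R) := by
      have := (hC₀.comm_le (commutator_mem_commutator (inv_mem hv) (mem_top u⁻¹))).2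
      simpa [hc, commutatorElement_def] using this
    have hcu : c * u = u * c := (mem_centralizer_iff.mp hcC u hu).symm
    have hcv : c * v = v * c := (mem_centralizer_iff.mp hcC v hv).symm
    have hvu : v * u = u * v * c := by rw [hc]; group
    clear_value c
    have hcp : c ^ p = 1 := by
      have h1 : u⁻¹ * v * u⁻¹⁻¹ = v * c := by
        rw [inv_inv, mul_assoc, hvu]; group
      have h2 : (u⁻¹ * v * u⁻¹⁻¹) ^ p = v ^ p * c ^ p := by
        rw [h1, (show Commute v c from hcv.symm).mul_pow]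
      have h3 : u⁻¹ * v ^ p * u⁻¹⁻¹ = v ^ p := by
        rw [inv_inv, mul_assoc, ← mem_centralizer_iff.mp (hC₀.pow_mem v hv).2 u hu]; group
      rw [conj_pow, h3] at h2
      exact left_eq_mul.mp h2
    have h4 := mul_pow_of_commute hvu hcu hcv e
    obtain ⟨k, hk⟩ := hec
    rw [hk, pow_mul, hcp, one_pow, mul_one] at h4
    have h5 := congrArg R.subtype h4
    simp only [map_pow, map_mul] at h5
    rw [hue, hve, mul_one] at h5
    exact h5
  let Ω : Subgroup G :=
    { carrier := {z | z ∈ C ∧ z ^ e = 1}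
      one_mem' := ⟨C.one_mem, one_pow e⟩
      mul_mem' := fun {u v} hu hv => ⟨C.mul_mem hu.1 hv.1, hcl u hu.1 v hv.1 hu.2 hv.2⟩
      inv_mem' := fun {u} hu => ⟨C.inv_mem hu.1, by rw [inv_pow, hu.2, inv_one]⟩ }
  have hΩn : Ω.Normal := ⟨fun z hz g => ⟨hCn.conj_mem z hz.1 g, hTc g z hz.2⟩⟩
  have hΩy : ∀ z ∈ Ω, y * z = z * y :=
    commute_of_normal_pPowerIndex hy hΩn (hRp.to_le fun z hz => hCR hz.1) fun z hz => h z hz.2
  have hCy : ∀ z ∈ C, y * z = z * y :=
    commute_of_commute_omega hy (hRp.to_le hCR) (fun z hz => hCn.conj_mem z hz y)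
      fun z hz hze => hΩy z ⟨hz, hze⟩
  have hfin := Critical.le_centralizer_of_le_centralizer_critical hCR
    (commutator_le_right R C) hcen
    (by haveI := hRn; rw [normalizer_eq_top]; exact le_top : zpowers y ≤ normalizer (R : Set G)) (by
      obtain ⟨k, hk⟩ := hRp.exists_card_eq
      rw [hk, Nat.card_zpowers]
      exact hy.pow_right k)
    (zpowers_le.mpr (mem_centralizer_iff.mpr fun c hc => (hCy c hc).symm))
  exact (mem_centralizer_iff.mp (hfin (mem_zpowers y)) x (subset_closure hx)).symm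

end Cfsg.Agent.Lib.PPowerIndex
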